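import Cfsg.Agent.R3.Suz.Nets

set_option autoImplicit false
set_option maxRecDepth 100000

namespace Cfsg.Agent.R3.Suz
open Cfsg.Agent.Comp Cfsg.Agent.Schur Cfsg.Agent.R3

def Q : List (Nat × List (List Nat)) :=
  [(20, [[19, 16, 15, 12, 12, 12, 12], [17, 13, 13, 12, 12, 12, 12], [18, 13, 13, 12, 12, 12, 12], [19, 18, 17, 15, 12, 12], [19, 18, 17, 16, 12, 12], [18, 17, 14, 13, 13], [18, 17, 16, 15, 13, 12, 12, 12, 12], [17, 13, 12, 12, 12]]),
   (19, [[18], [17], [16, 13, 13], [15, 13, 13], [18, 17, 16, 15, 14, 13, 13, 12, 12, 12, 12], [13, 13, 13], [18, 17, 16, 15, 13, 13, 12]]),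
   (18, [[17], [16], [15], [16, 15, 14, 13, 13, 12, 12, 12, 12], [13, 13, 13, 12, 12, 12, 12], [16, 15, 12]]),
   (17, [[16, 12, 12, 12, 12], [15, 12, 12, 12, 12], [16, 15, 14, 13, 13, 12, 12, 12, 12], [13, 13, 13, 12, 12, 12, 12], [16, 15, 13, 13, 12]]),
   (16, [[15, 13, 13, 12, 12, 12, 12], [14, 13, 13, 13, 12, 12, 12, 12], [13, 13, 13], [13, 13, 13, 12, 12, 12, 12, 12]]),
   (15, [[14, 13, 13, 13, 12, 12, 12, 12], [13, 13, 13], [13, 13, 13, 12]]),
   (14, [[13, 13, 13], [12, 12, 12]]),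
   (13, [[12]]),
   (12, [])]

def As1 : List (Nat × List Nat) :=
  [(417, []),
   (418, [0, 1, 2, 3, 4, 5, 8, 0, 1, 6, 4, 2]),
   (432, [4, 8]),
   (440, [0, 1, 4, 6, 7, 8]),
   (444, [0, 1, 5, 6]),
   (456, [0, 1, 2, 3, 6, 8, 4, 0, 1, 4])]

def ln : Nat := nat_lit 0x40000000000000000000000000000000000000010000000000040001000200000000000000000000000000000000000000000000000000000000000000000000000000000000000000000000000000000000

theorem eqQ : ∀ e ∈ pcE (2 ^ 3) Q, ev (sig R0) e.1 = ev (sig R0) e.2 :=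
  eqs_base ok0 all0 le Comp.Suz.base (by decide) (by decide +kernel)

theorem fixQ : invZ R0 (pcW Q) (pt 417) = true := by decide +kernel

theorem at1 : atomsB R0 (pcW Q) As1 D0 (f1 11 45 417 ln) = true := by decide +kernel

def Wq : List (List Nat) := [[23],
   [24]]

def As6 : List (Nat × List Nat) :=
  [(1, []),
   (2, [0, 1, 0, 1, 0, 1, 0, 1, 0, 1, 0, 1, 0, 1, 0]),
   (4, [0, 1, 0, 1, 0, 1, 0, 1, 0, 1, 0])]

theorem fixq : invZ R0 Wq (pt 1) = true := by decide +kernel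

theorem at6 : atomsB R0 Wq As6 G0 (f6 11 1365 1050 1 N) = true := by decide +kernel

def Wd : List (List Nat) := [[25],
   [26]]

def As3 : List (Nat × List Nat) :=
  [(417, []),
   (418, [0, 1, 0, 1, 0, 1, 0, 1, 0, 1, 0, 1, 0, 1, 0, 1, 0, 0]),
   (432, [0, 0, 1, 0, 0, 1, 0, 1, 0]),
   (440, [0, 1, 0, 1, 0, 1, 0, 1, 0, 1, 0, 1, 0, 0, 1])]

theorem fixd : invZ R0 Wd (pt 417) = true := by decide +kernel

theorem at3 : atomsB R0 Wd As3 D0 (f3' 11 1365 416 417 S) = true := by decide +kernel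

theorem lam : Nat.beq (popc 11 S) 1044 = true := by decide +kernel

def Y : List (Nat × List Nat) :=
  [(432, [6, 14, 1]),
   (444, [1, 26, 24]),
   (450, [23, 1]),
   (464, [1, 0, 7]),
   (465, [23, 1, 3]),
   (493, [21, 21, 24]),
   (496, [7, 16, 23]),
   (532, [1, 14, 6]),
   (580, [24, 6]),
   (581, [23, 13, 22]),
   (653, [23, 17, 22]),
   (654, [23, 1, 15]),
   (1539, [24, 6, 10]),
   (1631, [24, 6, 8]),
   (1706, [1, 9, 26, 24]),
   (1714, [1, 0, 7, 8]),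
   (1721, [24, 11, 6]),
   (1752, [7, 14, 1]),
   (1754, [22, 10, 21]),
   (1773, [1, 0, 7, 10])]

theorem quad : quadB 11 1365 416 1044 1050 10 17 417 D0 S R0 Y = true := by decide +kernel


end Cfsg.Agent.R3.Suz
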