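import Cfsg.Agent.R3.Suz.A
import Cfsg.Agent.R3.Suz2.Nets

set_option autoImplicit false
set_option maxRecDepth 100000

namespace Cfsg.Agent.R3.Suz
open Cfsg.Agent.Comp Cfsg.Agent.Schur Cfsg.Agent.R3

def P : List (Nat × List (List Nat)) :=
  [(22, [[21]]),
   (21, [])]

def As : List (Nat × List Nat) :=
  [(417, [0, 1, 0, 1, 0, 1, 0, 1]),
   (419, [0, 1, 0, 1, 0, 1, 0, 1]),
   (421, [0, 1, 0, 1, 0, 1, 0, 1]),
   (422, [0, 1, 0, 1, 0, 1, 0, 1]),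
   (423, [0, 1, 0, 1, 0, 1, 0, 1]),
   (425, [0, 1, 0, 1, 0, 1, 0, 1]),
   (427, [0, 1, 0, 1, 0, 1, 0, 1]),
   (428, [0, 1, 0, 1, 0, 1, 0, 1]),
   (429, [0, 1, 0, 1, 0, 1, 0, 1]),
   (430, [0, 1, 0, 1, 0, 1, 0, 1]),
   (432, [0, 1, 0, 1, 0, 1, 0, 1]),
   (435, [0, 1, 0, 1, 0, 1, 0, 1]),
   (437, [0, 1, 0, 1, 0, 1, 0, 1]),
   (439, [0, 1, 0, 1, 0, 1, 0, 1]),
   (441, [0, 1, 0, 1, 0, 1, 0, 1]),
   (442, [0, 1, 0, 1, 0, 1, 0, 1]),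
   (443, [0, 1, 0, 1, 0, 1, 0, 1]),
   (449, [0, 1, 0, 1, 0, 1, 0, 1]),
   (451, [0, 1, 0, 1, 0, 1, 0, 1]),
   (452, [0, 0, 0, 0]),
   (453, [0, 1, 0, 1, 0, 1, 0, 1]),
   (454, [0, 1, 0, 1, 0, 1, 0, 1]),
   (457, [0, 1, 0, 1, 0, 1, 0, 1]),
   (461, [0, 1, 0, 1, 0, 1, 0, 1]),
   (467, [0, 1, 0, 1, 0, 1, 0, 1]),
   (479, [0, 1, 0, 1, 0, 1, 0, 1]),
   (483, [0, 1, 0, 1, 0, 1, 0, 1]),
   (485, [0, 1, 0, 1, 0, 1, 0, 1]),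
   (488, [0, 1, 0, 1, 0, 1, 0, 1]),
   (490, [0, 1, 0, 1, 0, 1, 0, 1]),
   (491, [0, 1, 0, 1, 0, 1, 0, 1]),
   (494, [0, 1, 0, 1, 0, 1, 0, 1]),
   (501, [0, 1, 0, 1, 0, 1, 0, 1]),
   (503, [0, 1, 0, 1, 0, 1, 0, 1]),
   (504, [0, 1, 0, 1, 0, 1, 0, 1]),
   (510, [0, 1, 0, 1, 0, 1, 0, 1]),
   (513, [0, 1, 0, 1, 0, 1, 0, 1]),
   (515, [0, 1, 0, 1, 0, 1, 0, 1]),
   (520, [0, 1, 0, 1, 0, 1, 0, 1]),
   (522, [0, 1, 0, 1, 0, 1, 0, 1]),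
   (523, [0, 1, 0, 1, 0, 1, 0, 1]),
   (527, [0, 1, 0, 1, 0, 1, 0, 1]),
   (531, [0, 1, 0, 1, 0, 1, 0, 1]),
   (542, [0, 1, 0, 1, 0, 1, 0, 1]),
   (549, [0, 1, 0, 1, 0, 1, 0, 1]),
   (567, [0, 1, 0, 1, 0, 1, 0, 1]),
   (569, [0, 1, 0, 1, 0, 1, 0, 1]),
   (572, [0, 1, 0, 1, 0, 1, 0, 1]),
   (574, [0, 1, 0, 1, 0, 1, 0, 1]),
   (578, [0, 1, 0, 1, 0, 1, 0, 1]),
   (589, [0, 0, 0, 0]),
   (590, [0, 1, 0, 1, 0, 1, 0, 1]),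
   (597, [0, 1, 0, 1, 0, 1, 0, 1]),
   (598, [0, 1, 0, 1, 0, 1, 0, 1]),
   (622, [0, 1, 0, 1, 0, 1, 0, 1]),
   (665, [0, 1, 0, 1, 0, 1, 0, 1]),
   (950, [0, 1, 0])]

theorem eqP : ∀ e ∈ pcE (5 ^ 1) P, ev (sig R0) e.1 = ev (sig R0) e.2 :=
  eqs_base ok0 all0 le Comp.Suz.base (by decide) (by decide +kernel)

def e0 : List Nat × Nat × List Nat := ([], 0, [10, 1, 11, 23, 11, 29, 5, 15, 47, 18, 48, 24, 54, 42, 6, 55, 36, 6, 16, 49])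

def C : List (List Nat × Nat × List Nat) :=
  [([1, 0], 1, [4, 8, 6, 17, 5, 21, 3, 19, 23, 2, 39, 12, 15, 41, 0, 51, 11, 46, 34, 18]),
   ([1, 5], 2, [1, 4, 19, 9, 20, 34, 8, 3, 31, 7, 51, 5, 18, 9, 7, 39, 20, 31, 21, 15]),
   ([6], 3, [2, 12, 4, 25, 1, 4, 7, 4, 13, 6, 32, 20, 39, 30, 47, 4, 40, 36, 22, 42]),
   ([1, 14], 4, [3, 37, 1, 30, 21, 3, 12, 28, 36, 35, 22, 6, 20, 25, 3, 3, 2, 13, 32, 7]),
   ([6, 14], 5, [6, 24, 10, 23, 11, 14, 24, 0, 38, 10, 17, 12, 38, 8, 41, 1, 14, 19, 2, 46]),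
   ([23, 0], 6, [12, 0, 1, 32, 54, 47, 3, 49, 30, 36, 46, 4, 24, 16, 5, 55, 10, 0, 42, 12]),
   ([24, 4], 7, [22, 33, 38, 2, 44, 3, 56, 16, 4, 24, 20, 45, 37, 15, 33, 18, 42, 2, 20, 24]),
   ([6, 25], 8, [8, 29, 8, 44, 30, 40, 8, 13, 37, 43, 26, 8, 54, 19, 55, 1, 45, 5, 2, 52]),
   ([24, 0], 9, [24, 31, 47, 34, 39, 2, 55, 21, 31, 2, 51, 27, 43, 13, 33, 32, 48, 14, 33, 14]),
   ([6, 14, 1], 10, [53, 5, 27, 35, 11, 33, 20, 0, 31, 24, 52, 26, 27, 6, 28, 12, 20, 5, 24, 40]),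
   ([23], 11, [10, 53, 0, 35, 52, 17, 24, 12, 43, 28, 49, 5, 0, 12, 15, 45, 1, 48, 32, 18]),
   ([7, 0, 22], 12, [13, 32, 35, 4, 11, 1, 41, 48, 3, 45, 6, 36, 53, 24, 52, 5, 11, 6, 10, 28]),
   ([24], 13, [33, 44, 32, 25, 43, 3, 9, 52, 4, 37, 32, 14, 8, 12, 30, 35, 43, 41, 36, 29]),
   ([6, 25, 4], 14, [17, 20, 23, 33, 50, 9, 5, 54, 48, 25, 43, 38, 32, 41, 13, 38, 9, 5, 46, 33]),
   ([1, 25], 15, [22, 18, 29, 48, 7, 43, 49, 20, 25, 2, 18, 18, 1, 53, 11, 44, 0, 35, 34, 18]),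
   ([7, 0, 2], 16, [22, 26, 44, 6, 47, 0, 46, 18, 42, 51, 55, 41, 54, 7, 42, 33, 34, 44, 24, 21]),
   ([7, 2], 17, [14, 23, 23, 21, 28, 1, 38, 25, 23, 40, 39, 5, 35, 37, 43, 23, 49, 22, 42, 11]),
   ([23, 3], 18, [15, 15, 0, 29, 25, 22, 11, 48, 49, 43, 15, 1, 15, 16, 2, 47, 7, 51, 26, 20]),
   ([23, 5], 19, [5, 1, 2, 5, 8, 2, 8, 2, 8, 5, 1, 1, 5, 2, 2, 8, 1, 1, 5, 8]),
   ([1, 12, 22], 20, [40, 53, 28, 14, 26, 50, 27, 10, 25, 27, 54, 10, 7, 18, 2, 2, 4, 7, 15, 3]),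
   ([24, 1], 21, [31, 16, 39, 23, 34, 1, 2, 42, 17, 54, 39, 9, 34, 4, 36, 28, 49, 37, 35, 52]),
   ([7, 5], 22, [16, 29, 41, 36, 18, 4, 46, 15, 3, 49, 30, 44, 23, 7, 37, 38, 17, 56, 45, 42]),
   ([1, 15, 6], 23, [40, 22, 25, 21, 17, 1, 17, 42, 39, 37, 17, 28, 14, 48, 38, 0, 5, 47, 29, 17]),
   ([1, 17, 18], 24, [11, 6, 5, 33, 10, 37, 0, 12, 7, 5, 42, 10, 44, 9, 33, 55, 7, 27, 47, 16]),
   ([1, 16, 7], 25, [53, 20, 41, 32, 50, 4, 26, 14, 13, 54, 3, 46, 43, 17, 18, 40, 15, 23, 28, 48]),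
   ([6, 26, 24], 26, [29, 40, 30, 41, 8, 46, 55, 44, 53, 37, 25, 40, 51, 10, 47, 20, 16, 27, 53, 18]),
   ([23, 5, 23], 27, [38, 26, 31, 20, 53, 10, 30, 10, 28, 20, 40, 36, 31, 24, 38, 47, 29, 55, 9, 49]),
   ([1, 16, 1, 12], 28, [11, 23, 52, 40, 25, 10, 12, 17, 27, 40, 20, 53, 21, 51, 37, 45, 35, 39, 53, 4]),
   ([22, 6], 29, [31, 15, 49, 8, 18, 30, 38, 22, 43, 49, 13, 27, 55, 48, 30, 47, 40, 0, 23, 26]),
   ([7, 0, 3], 30, [13, 29, 29, 36, 40, 4, 43, 55, 22, 26, 3, 8, 47, 27, 32, 36, 46, 38, 31, 6]),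
   ([1, 5, 23], 31, [36, 35, 27, 9, 33, 51, 30, 52, 2, 10, 34, 38, 29, 9, 38, 21, 27, 2, 39, 49]),
   ([7, 1], 32, [9, 12, 13, 30, 45, 6, 33, 48, 46, 11, 47, 14, 48, 25, 51, 13, 55, 3, 4, 39]),
   ([7, 3], 33, [9, 32, 14, 24, 13, 7, 48, 9, 37, 14, 42, 43, 7, 31, 24, 52, 44, 35, 10, 16]),
   ([23, 16], 34, [52, 46, 49, 31, 51, 9, 36, 1, 51, 41, 2, 21, 53, 21, 15, 54, 35, 42, 16, 44]),
   ([7, 0, 7], 35, [12, 53, 13, 43, 34, 11, 41, 44, 49, 15, 17, 36, 4, 33, 37, 10, 28, 52, 31, 21]),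
   ([23, 5, 15], 36, [52, 13, 21, 3, 12, 22, 34, 41, 30, 35, 4, 49, 6, 27, 54, 30, 0, 31, 38, 49]),
   ([6, 2, 7], 37, [7, 22, 42, 26, 17, 8, 24, 23, 44, 42, 40, 33, 4, 43, 21, 13, 28, 52, 44, 35]),
   ([1, 7, 0], 38, [27, 45, 31, 14, 22, 5, 36, 7, 41, 56, 46, 30, 5, 31, 14, 49, 17, 29, 27, 23]),
   ([21, 4, 8], 39, [45, 47, 53, 55, 40, 32, 28, 3, 48, 42, 51, 51, 9, 17, 31, 23, 2, 1, 21, 21]),
   ([6, 23, 12], 40, [3, 29, 47, 20, 55, 10, 42, 30, 27, 26, 28, 39, 23, 8, 28, 44, 25, 26, 37, 17]),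
   ([1, 26, 18], 41, [38, 13, 5, 25, 35, 26, 14, 36, 46, 12, 53, 46, 51, 22, 46, 16, 34, 44, 46, 1]),
   ([6, 15, 7], 42, [33, 40, 24, 0, 3, 16, 7, 39, 55, 47, 6, 37, 23, 16, 22, 54, 17, 34, 21, 37]),
   ([6, 7, 7], 43, [33, 13, 48, 49, 30, 11, 9, 29, 35, 8, 17, 14, 13, 48, 37, 25, 52, 18, 15, 44]),
   ([1, 7, 16], 44, [46, 43, 41, 40, 13, 26, 16, 52, 8, 37, 37, 22, 35, 33, 34, 16, 15, 24, 7, 53]),
   ([21, 6, 5], 45, [45, 11, 45, 52, 48, 55, 45, 12, 54, 32, 8, 45, 56, 28, 22, 53, 38, 51, 39, 7]),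
   ([21, 20, 12], 46, [16, 14, 41, 51, 5, 1, 44, 38, 41, 41, 34, 22, 53, 6, 26, 30, 25, 47, 32, 41]),
   ([7, 5, 24], 47, [0, 39, 23, 30, 3, 32, 48, 40, 46, 42, 6, 29, 26, 27, 16, 9, 18, 24, 55, 51]),
   ([21, 6, 0], 48, [47, 11, 23, 14, 45, 33, 0, 32, 43, 12, 9, 29, 43, 55, 18, 32, 25, 39, 51, 15]),
   ([21, 2, 7], 49, [31, 17, 29, 54, 35, 0, 27, 43, 6, 11, 36, 38, 18, 34, 22, 21, 15, 36, 52, 29]),
   ([1, 18, 25, 17], 50, [54, 25, 20, 14, 14, 25, 25, 54, 20, 20, 54, 14, 54, 20, 20, 25, 14, 14, 54, 25]),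
   ([21, 7, 23], 51, [9, 16, 34, 55, 26, 32, 2, 47, 39, 18, 48, 31, 46, 45, 34, 28, 1, 39, 53, 41]),
   ([21, 9, 14], 52, [45, 37, 55, 33, 43, 31, 8, 13, 10, 44, 35, 54, 34, 28, 49, 12, 36, 11, 53, 21]),
   ([6, 23], 53, [27, 26, 26, 12, 25, 11, 10, 46, 28, 41, 52, 20, 28, 34, 45, 44, 39, 35, 15, 51]),
   ([21, 17], 54, [52, 14, 55, 49, 20, 0, 8, 25, 36, 50, 6, 45, 34, 54, 16, 54, 21, 54, 54, 42]),
   ([7, 16, 18], 55, [47, 52, 9, 32, 45, 48, 27, 8, 51, 54, 39, 24, 16, 40, 6, 29, 42, 26, 30, 0]),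
   ([1, 22, 4], 56, [22, 38, 7, 38, 45, 45, 38, 22, 22, 7, 7, 45, 38, 7, 45, 38, 7, 45, 22, 22])]

theorem cons : ConsOK 417 D0 R0 (pcW P) As (Y.map Prod.fst) (e0 :: C) :=
  ConsOK.of (by decide +kernel)

def sols : List (Nat × List Nat × Nat) :=
  [(0xfbffbd76e7b95b, [], Z)]

theorem sol : solB D0 R0 (pcW P) As sols = true := by decide +kernel

def w1 : List Nat :=
  [1, 5, 15, 19, 11, 19, 14, 24, 7, 15, 14, 15, 4, 16, 22, 0, 21, 21, 5, 7, 22, 18, 22, 8, 15, 12, 18, 5, 23, 7, 24, 17, 4, 2, 9, 0, 3, 9, 26, 22, 11, 22, 12, 22, 17, 22, 25, 2, 22, 14, 5, 0, 9, 14, 25, 1, 6, 11, 15, 14, 10, 7, 12, 9, 1, 25, 12, 25, 3, 10, 10, 8, 22, 1, 13, 7, 17, 14, 18, 23, 20, 22, 15, 6, 8, 11, 26, 4, 10, 10, 3, 20, 12, 14, 25, 26, 6, 16, 15, 3] ++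
  [20, 13, 22, 3, 23, 8, 24, 21, 15, 7, 26, 6, 18, 14, 1, 13, 11, 2, 10, 6, 2, 21, 6, 22, 6, 24, 26, 4, 0, 1, 19, 21, 8, 23, 13, 14, 10, 11, 20, 25, 5, 10, 3, 10, 6, 15, 26, 22, 24, 21, 13, 18, 23, 21, 0, 6, 4, 5, 25, 6, 4, 5, 26, 12, 15, 2, 18, 0, 21, 25, 10, 19, 8, 17, 3, 21, 17, 14, 12, 16, 6, 13, 26, 5, 26, 10, 0, 4, 25, 13, 22, 9, 8, 4, 9, 12, 10, 10, 25, 21] ++
  [0, 18, 19, 14, 19, 9, 24, 0, 6]

def w2 : List Nat :=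
  [15, 26, 22, 21, 1, 24, 12, 26, 1, 15, 3, 16, 4, 10, 25, 19, 3, 2, 1, 2, 17, 14, 13, 23, 15, 17, 0, 19, 1, 8, 13, 6, 0, 11, 26, 18, 25, 18, 9, 2, 19, 12, 18, 26, 23, 4, 17, 20, 21, 22, 10, 3, 20, 14, 23, 21, 5, 17, 9, 10, 18, 11, 19, 20, 3, 22, 3, 25, 0, 8, 26, 26, 9, 12, 24, 15, 20, 15, 24, 5, 2, 15, 2, 10, 4, 21, 25, 11, 25, 24, 2, 18, 1, 16, 13, 23, 19, 26, 1, 18] ++
  [17, 22, 15, 21, 12, 13, 24, 23, 4, 6, 14, 20, 18, 2, 12, 2, 25, 15, 9, 16, 20, 5, 18, 12, 24, 18, 15, 21, 9, 17, 0, 19, 20, 10, 16, 9, 10, 17, 10, 12, 21, 22, 1, 11, 12, 15, 9, 25, 21, 20, 21, 16, 14, 3, 22, 19, 3, 8, 13, 2, 9, 3, 21, 26, 19, 11, 23, 19, 16, 14, 3, 25, 5, 26, 4, 13, 13, 19, 9, 20, 25, 18, 4, 12, 21, 14, 7, 3, 21, 24, 8, 0, 18, 12, 25, 19, 7, 13, 7, 14] ++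
  [12, 16, 23, 19, 14, 21, 17, 11, 22, 0, 4, 15, 17, 1, 19, 4, 23, 15, 7, 19, 13, 8, 12, 7, 26, 19, 20, 4, 24, 9, 20, 18, 16, 17, 3, 23, 22, 2, 13, 1, 12, 3, 13, 26, 17, 19, 21, 5, 0, 25, 10, 21, 7, 20, 25, 4, 12, 15, 15, 4, 11, 16, 26, 11, 17, 12, 25, 1, 9, 0, 12, 13, 24, 9, 11, 26, 9, 24, 18, 17, 5, 2, 18, 22, 20, 3, 19, 10, 12, 18, 6, 0, 13, 13, 26, 22, 21, 2, 19, 6] ++
  [13, 2, 7, 2, 22, 13, 14, 3, 5, 6, 13, 8, 21, 10, 26, 25, 16, 12, 18, 19, 3, 24, 10, 6, 11, 13, 19, 25, 24, 10, 13, 1, 18, 17, 2, 17, 22, 0, 15, 13, 7, 4, 25, 12, 11, 9, 8, 26, 20, 26, 24, 13, 7, 12, 20, 18, 3, 6, 20, 22, 5, 15, 24, 14, 20, 24, 14, 15, 11, 26, 23, 2, 23, 1, 14, 10, 1, 8, 15, 11, 11, 6, 8, 6, 22, 26, 0, 6, 0, 4, 21, 15, 7, 6, 16, 26, 18, 25, 17, 26] ++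
  [21, 24, 18, 23, 18, 21, 1, 10, 23, 11, 7, 26, 6, 19, 15, 3, 14, 26, 0, 2, 5, 23, 19, 4, 18, 5, 3, 18, 0, 12, 18, 12, 18, 12, 6, 12, 2, 13, 11, 2, 14, 23, 25, 16, 19, 7, 22, 20, 14, 0, 24, 14, 21, 1, 12, 0, 4, 6, 1, 18, 3, 21, 8, 9, 3, 9, 22, 25, 1, 25, 26, 26, 23, 13, 10, 2, 14, 23, 11, 0, 13, 4, 21, 22, 24, 25, 4, 0, 12, 25, 1, 14, 16, 12, 8, 15, 14, 24, 21, 13] ++
  [23, 9, 4, 26, 17, 26, 14, 2, 8, 18, 22, 18, 19, 9, 20, 1, 0, 22, 17, 13, 14, 2, 18, 17, 14, 19, 4, 5, 22, 22, 17, 5, 24, 19, 2, 24, 26, 25, 26, 2, 1, 21, 0, 14, 9, 8, 3, 7, 2, 22, 23, 0, 17, 21, 5, 10, 11, 5, 0, 10, 17, 14, 23, 22, 22, 17, 18, 25, 9, 2, 14, 5, 2, 17, 12, 8, 9, 1, 24, 10, 17, 2, 11, 6, 3, 23, 15, 21, 14, 10, 6, 25, 16, 25, 8, 25, 7, 8, 14, 15] ++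
  [14, 0, 4, 13, 25, 18, 25, 11, 19, 12, 7, 0, 19, 14, 10, 21, 4, 3, 12, 25, 11, 4, 23, 17, 26, 5, 8, 22, 22, 14, 26, 7, 17, 22, 7, 26, 25, 6, 25, 23, 8, 17, 0, 16, 11, 16, 3, 5, 13, 0, 23, 9, 15, 4, 25, 6, 17, 9, 19, 17, 3, 11, 16, 0, 20, 10, 18, 17, 20, 10, 21, 11, 6, 9, 0, 1, 0, 18, 10, 3, 5, 7, 0]

theorem good : Nat.ble 209 (walk 1782 65521 R0 w1 Z (nat_lit 0) (nat_lit 0)) = true := by decide +kernel

theorem lines : Nat.ble 683 (walk 1782 65521 R0 w2 ln (nat_lit 0) (nat_lit 0)) = true := by decide +kernel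

theorem fixl : invZ R0 Suz2.Wd ln = true := by decide +kernel

def C2 : List (Nat × List Nat) :=
  [(nat_lit 1, [nat_lit 4, nat_lit 8, nat_lit 6, nat_lit 17, nat_lit 5, nat_lit 21, nat_lit 3, nat_lit 19, nat_lit 23, nat_lit 2, nat_lit 39, nat_lit 12, nat_lit 15, nat_lit 41, nat_lit 0, nat_lit 51, nat_lit 11, nat_lit 46, nat_lit 34, nat_lit 18]),
   (nat_lit 2, [nat_lit 1, nat_lit 4, nat_lit 19, nat_lit 9, nat_lit 20, nat_lit 34, nat_lit 8, nat_lit 3, nat_lit 31, nat_lit 7, nat_lit 51, nat_lit 5, nat_lit 18, nat_lit 9, nat_lit 7, nat_lit 39, nat_lit 20, nat_lit 31, nat_lit 21, nat_lit 15]),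
   (nat_lit 3, [nat_lit 2, nat_lit 12, nat_lit 4, nat_lit 25, nat_lit 1, nat_lit 4, nat_lit 7, nat_lit 4, nat_lit 13, nat_lit 6, nat_lit 32, nat_lit 20, nat_lit 39, nat_lit 30, nat_lit 47, nat_lit 4, nat_lit 40, nat_lit 36, nat_lit 22, nat_lit 42]),
   (nat_lit 4, [nat_lit 3, nat_lit 37, nat_lit 1, nat_lit 30, nat_lit 21, nat_lit 3, nat_lit 12, nat_lit 28, nat_lit 36, nat_lit 35, nat_lit 22, nat_lit 6, nat_lit 20, nat_lit 25, nat_lit 3, nat_lit 3, nat_lit 2, nat_lit 13, nat_lit 32, nat_lit 7]),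
   (nat_lit 5, [nat_lit 6, nat_lit 24, nat_lit 10, nat_lit 23, nat_lit 11, nat_lit 14, nat_lit 24, nat_lit 0, nat_lit 38, nat_lit 10, nat_lit 17, nat_lit 12, nat_lit 38, nat_lit 8, nat_lit 41, nat_lit 1, nat_lit 14, nat_lit 19, nat_lit 2, nat_lit 46]),
   (nat_lit 6, [nat_lit 12, nat_lit 0, nat_lit 1, nat_lit 32, nat_lit 54, nat_lit 47, nat_lit 3, nat_lit 49, nat_lit 30, nat_lit 36, nat_lit 46, nat_lit 4, nat_lit 24, nat_lit 16, nat_lit 5, nat_lit 55, nat_lit 10, nat_lit 0, nat_lit 42, nat_lit 12]),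
   (nat_lit 7, [nat_lit 22, nat_lit 33, nat_lit 38, nat_lit 2, nat_lit 44, nat_lit 3, nat_lit 56, nat_lit 16, nat_lit 4, nat_lit 24, nat_lit 20, nat_lit 45, nat_lit 37, nat_lit 15, nat_lit 33, nat_lit 18, nat_lit 42, nat_lit 2, nat_lit 20, nat_lit 24]),
   (nat_lit 8, [nat_lit 8, nat_lit 29, nat_lit 8, nat_lit 44, nat_lit 30, nat_lit 40, nat_lit 8, nat_lit 13, nat_lit 37, nat_lit 43, nat_lit 26, nat_lit 8, nat_lit 54, nat_lit 19, nat_lit 55, nat_lit 1, nat_lit 45, nat_lit 5, nat_lit 2, nat_lit 52]),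
   (nat_lit 9, [nat_lit 24, nat_lit 31, nat_lit 47, nat_lit 34, nat_lit 39, nat_lit 2, nat_lit 55, nat_lit 21, nat_lit 31, nat_lit 2, nat_lit 51, nat_lit 27, nat_lit 43, nat_lit 13, nat_lit 33, nat_lit 32, nat_lit 48, nat_lit 14, nat_lit 33, nat_lit 14]),
   (nat_lit 10, [nat_lit 53, nat_lit 5, nat_lit 27, nat_lit 35, nat_lit 11, nat_lit 33, nat_lit 20, nat_lit 0, nat_lit 31, nat_lit 24, nat_lit 52, nat_lit 26, nat_lit 27, nat_lit 6, nat_lit 28, nat_lit 12, nat_lit 20, nat_lit 5, nat_lit 24, nat_lit 40]),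
   (nat_lit 11, [nat_lit 10, nat_lit 53, nat_lit 0, nat_lit 35, nat_lit 52, nat_lit 17, nat_lit 24, nat_lit 12, nat_lit 43, nat_lit 28, nat_lit 49, nat_lit 5, nat_lit 0, nat_lit 12, nat_lit 15, nat_lit 45, nat_lit 1, nat_lit 48, nat_lit 32, nat_lit 18]),
   (nat_lit 12, [nat_lit 13, nat_lit 32, nat_lit 35, nat_lit 4, nat_lit 11, nat_lit 1, nat_lit 41, nat_lit 48, nat_lit 3, nat_lit 45, nat_lit 6, nat_lit 36, nat_lit 53, nat_lit 24, nat_lit 52, nat_lit 5, nat_lit 11, nat_lit 6, nat_lit 10, nat_lit 28]),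
   (nat_lit 13, [nat_lit 33, nat_lit 44, nat_lit 32, nat_lit 25, nat_lit 43, nat_lit 3, nat_lit 9, nat_lit 52, nat_lit 4, nat_lit 37, nat_lit 32, nat_lit 14, nat_lit 8, nat_lit 12, nat_lit 30, nat_lit 35, nat_lit 43, nat_lit 41, nat_lit 36, nat_lit 29]),
   (nat_lit 14, [nat_lit 17, nat_lit 20, nat_lit 23, nat_lit 33, nat_lit 50, nat_lit 9, nat_lit 5, nat_lit 54, nat_lit 48, nat_lit 25, nat_lit 43, nat_lit 38, nat_lit 32, nat_lit 41, nat_lit 13, nat_lit 38, nat_lit 9, nat_lit 5, nat_lit 46, nat_lit 33]),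
   (nat_lit 15, [nat_lit 22, nat_lit 18, nat_lit 29, nat_lit 48, nat_lit 7, nat_lit 43, nat_lit 49, nat_lit 20, nat_lit 25, nat_lit 2, nat_lit 18, nat_lit 18, nat_lit 1, nat_lit 53, nat_lit 11, nat_lit 44, nat_lit 0, nat_lit 35, nat_lit 34, nat_lit 18]),
   (nat_lit 16, [nat_lit 22, nat_lit 26, nat_lit 44, nat_lit 6, nat_lit 47, nat_lit 0, nat_lit 46, nat_lit 18, nat_lit 42, nat_lit 51, nat_lit 55, nat_lit 41, nat_lit 54, nat_lit 7, nat_lit 42, nat_lit 33, nat_lit 34, nat_lit 44, nat_lit 24, nat_lit 21]),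
   (nat_lit 17, [nat_lit 14, nat_lit 23, nat_lit 23, nat_lit 21, nat_lit 28, nat_lit 1, nat_lit 38, nat_lit 25, nat_lit 23, nat_lit 40, nat_lit 39, nat_lit 5, nat_lit 35, nat_lit 37, nat_lit 43, nat_lit 23, nat_lit 49, nat_lit 22, nat_lit 42, nat_lit 11]),
   (nat_lit 18, [nat_lit 15, nat_lit 15, nat_lit 0, nat_lit 29, nat_lit 25, nat_lit 22, nat_lit 11, nat_lit 48, nat_lit 49, nat_lit 43, nat_lit 15, nat_lit 1, nat_lit 15, nat_lit 16, nat_lit 2, nat_lit 47, nat_lit 7, nat_lit 51, nat_lit 26, nat_lit 20]),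
   (nat_lit 19, [nat_lit 5, nat_lit 1, nat_lit 2, nat_lit 5, nat_lit 8, nat_lit 2, nat_lit 8, nat_lit 2, nat_lit 8, nat_lit 5, nat_lit 1, nat_lit 1, nat_lit 5, nat_lit 2, nat_lit 2, nat_lit 8, nat_lit 1, nat_lit 1, nat_lit 5, nat_lit 8]),
   (nat_lit 20, [nat_lit 40, nat_lit 53, nat_lit 28, nat_lit 14, nat_lit 26, nat_lit 50, nat_lit 27, nat_lit 10, nat_lit 25, nat_lit 27, nat_lit 54, nat_lit 10, nat_lit 7, nat_lit 18, nat_lit 2, nat_lit 2, nat_lit 4, nat_lit 7, nat_lit 15, nat_lit 3]),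
   (nat_lit 21, [nat_lit 31, nat_lit 16, nat_lit 39, nat_lit 23, nat_lit 34, nat_lit 1, nat_lit 2, nat_lit 42, nat_lit 17, nat_lit 54, nat_lit 39, nat_lit 9, nat_lit 34, nat_lit 4, nat_lit 36, nat_lit 28, nat_lit 49, nat_lit 37, nat_lit 35, nat_lit 52]),
   (nat_lit 22, [nat_lit 16, nat_lit 29, nat_lit 41, nat_lit 36, nat_lit 18, nat_lit 4, nat_lit 46, nat_lit 15, nat_lit 3, nat_lit 49, nat_lit 30, nat_lit 44, nat_lit 23, nat_lit 7, nat_lit 37, nat_lit 38, nat_lit 17, nat_lit 56, nat_lit 45, nat_lit 42]),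
   (nat_lit 23, [nat_lit 40, nat_lit 22, nat_lit 25, nat_lit 21, nat_lit 17, nat_lit 1, nat_lit 17, nat_lit 42, nat_lit 39, nat_lit 37, nat_lit 17, nat_lit 28, nat_lit 14, nat_lit 48, nat_lit 38, nat_lit 0, nat_lit 5, nat_lit 47, nat_lit 29, nat_lit 17]),
   (nat_lit 24, [nat_lit 11, nat_lit 6, nat_lit 5, nat_lit 33, nat_lit 10, nat_lit 37, nat_lit 0, nat_lit 12, nat_lit 7, nat_lit 5, nat_lit 42, nat_lit 10, nat_lit 44, nat_lit 9, nat_lit 33, nat_lit 55, nat_lit 7, nat_lit 27, nat_lit 47, nat_lit 16]),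
   (nat_lit 25, [nat_lit 53, nat_lit 20, nat_lit 41, nat_lit 32, nat_lit 50, nat_lit 4, nat_lit 26, nat_lit 14, nat_lit 13, nat_lit 54, nat_lit 3, nat_lit 46, nat_lit 43, nat_lit 17, nat_lit 18, nat_lit 40, nat_lit 15, nat_lit 23, nat_lit 28, nat_lit 48]),
   (nat_lit 26, [nat_lit 29, nat_lit 40, nat_lit 30, nat_lit 41, nat_lit 8, nat_lit 46, nat_lit 55, nat_lit 44, nat_lit 53, nat_lit 37, nat_lit 25, nat_lit 40, nat_lit 51, nat_lit 10, nat_lit 47, nat_lit 20, nat_lit 16, nat_lit 27, nat_lit 53, nat_lit 18]),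
   (nat_lit 27, [nat_lit 38, nat_lit 26, nat_lit 31, nat_lit 20, nat_lit 53, nat_lit 10, nat_lit 30, nat_lit 10, nat_lit 28, nat_lit 20, nat_lit 40, nat_lit 36, nat_lit 31, nat_lit 24, nat_lit 38, nat_lit 47, nat_lit 29, nat_lit 55, nat_lit 9, nat_lit 49]),
   (nat_lit 28, [nat_lit 11, nat_lit 23, nat_lit 52, nat_lit 40, nat_lit 25, nat_lit 10, nat_lit 12, nat_lit 17, nat_lit 27, nat_lit 40, nat_lit 20, nat_lit 53, nat_lit 21, nat_lit 51, nat_lit 37, nat_lit 45, nat_lit 35, nat_lit 39, nat_lit 53, nat_lit 4]),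
   (nat_lit 29, [nat_lit 31, nat_lit 15, nat_lit 49, nat_lit 8, nat_lit 18, nat_lit 30, nat_lit 38, nat_lit 22, nat_lit 43, nat_lit 49, nat_lit 13, nat_lit 27, nat_lit 55, nat_lit 48, nat_lit 30, nat_lit 47, nat_lit 40, nat_lit 0, nat_lit 23, nat_lit 26]),
   (nat_lit 30, [nat_lit 13, nat_lit 29, nat_lit 29, nat_lit 36, nat_lit 40, nat_lit 4, nat_lit 43, nat_lit 55, nat_lit 22, nat_lit 26, nat_lit 3, nat_lit 8, nat_lit 47, nat_lit 27, nat_lit 32, nat_lit 36, nat_lit 46, nat_lit 38, nat_lit 31, nat_lit 6]),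
   (nat_lit 31, [nat_lit 36, nat_lit 35, nat_lit 27, nat_lit 9, nat_lit 33, nat_lit 51, nat_lit 30, nat_lit 52, nat_lit 2, nat_lit 10, nat_lit 34, nat_lit 38, nat_lit 29, nat_lit 9, nat_lit 38, nat_lit 21, nat_lit 27, nat_lit 2, nat_lit 39, nat_lit 49]),
   (nat_lit 32, [nat_lit 9, nat_lit 12, nat_lit 13, nat_lit 30, nat_lit 45, nat_lit 6, nat_lit 33, nat_lit 48, nat_lit 46, nat_lit 11, nat_lit 47, nat_lit 14, nat_lit 48, nat_lit 25, nat_lit 51, nat_lit 13, nat_lit 55, nat_lit 3, nat_lit 4, nat_lit 39]),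
   (nat_lit 33, [nat_lit 9, nat_lit 32, nat_lit 14, nat_lit 24, nat_lit 13, nat_lit 7, nat_lit 48, nat_lit 9, nat_lit 37, nat_lit 14, nat_lit 42, nat_lit 43, nat_lit 7, nat_lit 31, nat_lit 24, nat_lit 52, nat_lit 44, nat_lit 35, nat_lit 10, nat_lit 16]),
   (nat_lit 34, [nat_lit 52, nat_lit 46, nat_lit 49, nat_lit 31, nat_lit 51, nat_lit 9, nat_lit 36, nat_lit 1, nat_lit 51, nat_lit 41, nat_lit 2, nat_lit 21, nat_lit 53, nat_lit 21, nat_lit 15, nat_lit 54, nat_lit 35, nat_lit 42, nat_lit 16, nat_lit 44]),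
   (nat_lit 35, [nat_lit 12, nat_lit 53, nat_lit 13, nat_lit 43, nat_lit 34, nat_lit 11, nat_lit 41, nat_lit 44, nat_lit 49, nat_lit 15, nat_lit 17, nat_lit 36, nat_lit 4, nat_lit 33, nat_lit 37, nat_lit 10, nat_lit 28, nat_lit 52, nat_lit 31, nat_lit 21]),
   (nat_lit 36, [nat_lit 52, nat_lit 13, nat_lit 21, nat_lit 3, nat_lit 12, nat_lit 22, nat_lit 34, nat_lit 41, nat_lit 30, nat_lit 35, nat_lit 4, nat_lit 49, nat_lit 6, nat_lit 27, nat_lit 54, nat_lit 30, nat_lit 0, nat_lit 31, nat_lit 38, nat_lit 49]),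
   (nat_lit 37, [nat_lit 7, nat_lit 22, nat_lit 42, nat_lit 26, nat_lit 17, nat_lit 8, nat_lit 24, nat_lit 23, nat_lit 44, nat_lit 42, nat_lit 40, nat_lit 33, nat_lit 4, nat_lit 43, nat_lit 21, nat_lit 13, nat_lit 28, nat_lit 52, nat_lit 44, nat_lit 35]),
   (nat_lit 38, [nat_lit 27, nat_lit 45, nat_lit 31, nat_lit 14, nat_lit 22, nat_lit 5, nat_lit 36, nat_lit 7, nat_lit 41, nat_lit 56, nat_lit 46, nat_lit 30, nat_lit 5, nat_lit 31, nat_lit 14, nat_lit 49, nat_lit 17, nat_lit 29, nat_lit 27, nat_lit 23]),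
   (nat_lit 39, [nat_lit 45, nat_lit 47, nat_lit 53, nat_lit 55, nat_lit 40, nat_lit 32, nat_lit 28, nat_lit 3, nat_lit 48, nat_lit 42, nat_lit 51, nat_lit 51, nat_lit 9, nat_lit 17, nat_lit 31, nat_lit 23, nat_lit 2, nat_lit 1, nat_lit 21, nat_lit 21]),
   (nat_lit 40, [nat_lit 3, nat_lit 29, nat_lit 47, nat_lit 20, nat_lit 55, nat_lit 10, nat_lit 42, nat_lit 30, nat_lit 27, nat_lit 26, nat_lit 28, nat_lit 39, nat_lit 23, nat_lit 8, nat_lit 28, nat_lit 44, nat_lit 25, nat_lit 26, nat_lit 37, nat_lit 17]),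
   (nat_lit 41, [nat_lit 38, nat_lit 13, nat_lit 5, nat_lit 25, nat_lit 35, nat_lit 26, nat_lit 14, nat_lit 36, nat_lit 46, nat_lit 12, nat_lit 53, nat_lit 46, nat_lit 51, nat_lit 22, nat_lit 46, nat_lit 16, nat_lit 34, nat_lit 44, nat_lit 46, nat_lit 1]),
   (nat_lit 42, [nat_lit 33, nat_lit 40, nat_lit 24, nat_lit 0, nat_lit 3, nat_lit 16, nat_lit 7, nat_lit 39, nat_lit 55, nat_lit 47, nat_lit 6, nat_lit 37, nat_lit 23, nat_lit 16, nat_lit 22, nat_lit 54, nat_lit 17, nat_lit 34, nat_lit 21, nat_lit 37]),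
   (nat_lit 43, [nat_lit 33, nat_lit 13, nat_lit 48, nat_lit 49, nat_lit 30, nat_lit 11, nat_lit 9, nat_lit 29, nat_lit 35, nat_lit 8, nat_lit 17, nat_lit 14, nat_lit 13, nat_lit 48, nat_lit 37, nat_lit 25, nat_lit 52, nat_lit 18, nat_lit 15, nat_lit 44]),
   (nat_lit 44, [nat_lit 46, nat_lit 43, nat_lit 41, nat_lit 40, nat_lit 13, nat_lit 26, nat_lit 16, nat_lit 52, nat_lit 8, nat_lit 37, nat_lit 37, nat_lit 22, nat_lit 35, nat_lit 33, nat_lit 34, nat_lit 16, nat_lit 15, nat_lit 24, nat_lit 7, nat_lit 53]),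
   (nat_lit 45, [nat_lit 45, nat_lit 11, nat_lit 45, nat_lit 52, nat_lit 48, nat_lit 55, nat_lit 45, nat_lit 12, nat_lit 54, nat_lit 32, nat_lit 8, nat_lit 45, nat_lit 56, nat_lit 28, nat_lit 22, nat_lit 53, nat_lit 38, nat_lit 51, nat_lit 39, nat_lit 7]),
   (nat_lit 46, [nat_lit 16, nat_lit 14, nat_lit 41, nat_lit 51, nat_lit 5, nat_lit 1, nat_lit 44, nat_lit 38, nat_lit 41, nat_lit 41, nat_lit 34, nat_lit 22, nat_lit 53, nat_lit 6, nat_lit 26, nat_lit 30, nat_lit 25, nat_lit 47, nat_lit 32, nat_lit 41]),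
   (nat_lit 47, [nat_lit 0, nat_lit 39, nat_lit 23, nat_lit 30, nat_lit 3, nat_lit 32, nat_lit 48, nat_lit 40, nat_lit 46, nat_lit 42, nat_lit 6, nat_lit 29, nat_lit 26, nat_lit 27, nat_lit 16, nat_lit 9, nat_lit 18, nat_lit 24, nat_lit 55, nat_lit 51]),
   (nat_lit 48, [nat_lit 47, nat_lit 11, nat_lit 23, nat_lit 14, nat_lit 45, nat_lit 33, nat_lit 0, nat_lit 32, nat_lit 43, nat_lit 12, nat_lit 9, nat_lit 29, nat_lit 43, nat_lit 55, nat_lit 18, nat_lit 32, nat_lit 25, nat_lit 39, nat_lit 51, nat_lit 15]),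
   (nat_lit 49, [nat_lit 31, nat_lit 17, nat_lit 29, nat_lit 54, nat_lit 35, nat_lit 0, nat_lit 27, nat_lit 43, nat_lit 6, nat_lit 11, nat_lit 36, nat_lit 38, nat_lit 18, nat_lit 34, nat_lit 22, nat_lit 21, nat_lit 15, nat_lit 36, nat_lit 52, nat_lit 29]),
   (nat_lit 50, [nat_lit 54, nat_lit 25, nat_lit 20, nat_lit 14, nat_lit 14, nat_lit 25, nat_lit 25, nat_lit 54, nat_lit 20, nat_lit 20, nat_lit 54, nat_lit 14, nat_lit 54, nat_lit 20, nat_lit 20, nat_lit 25, nat_lit 14, nat_lit 14, nat_lit 54, nat_lit 25]),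
   (nat_lit 51, [nat_lit 9, nat_lit 16, nat_lit 34, nat_lit 55, nat_lit 26, nat_lit 32, nat_lit 2, nat_lit 47, nat_lit 39, nat_lit 18, nat_lit 48, nat_lit 31, nat_lit 46, nat_lit 45, nat_lit 34, nat_lit 28, nat_lit 1, nat_lit 39, nat_lit 53, nat_lit 41]),
   (nat_lit 52, [nat_lit 45, nat_lit 37, nat_lit 55, nat_lit 33, nat_lit 43, nat_lit 31, nat_lit 8, nat_lit 13, nat_lit 10, nat_lit 44, nat_lit 35, nat_lit 54, nat_lit 34, nat_lit 28, nat_lit 49, nat_lit 12, nat_lit 36, nat_lit 11, nat_lit 53, nat_lit 21]),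
   (nat_lit 53, [nat_lit 27, nat_lit 26, nat_lit 26, nat_lit 12, nat_lit 25, nat_lit 11, nat_lit 10, nat_lit 46, nat_lit 28, nat_lit 41, nat_lit 52, nat_lit 20, nat_lit 28, nat_lit 34, nat_lit 45, nat_lit 44, nat_lit 39, nat_lit 35, nat_lit 15, nat_lit 51]),
   (nat_lit 54, [nat_lit 52, nat_lit 14, nat_lit 55, nat_lit 49, nat_lit 20, nat_lit 0, nat_lit 8, nat_lit 25, nat_lit 36, nat_lit 50, nat_lit 6, nat_lit 45, nat_lit 34, nat_lit 54, nat_lit 16, nat_lit 54, nat_lit 21, nat_lit 54, nat_lit 54, nat_lit 42]),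
   (nat_lit 55, [nat_lit 47, nat_lit 52, nat_lit 9, nat_lit 32, nat_lit 45, nat_lit 48, nat_lit 27, nat_lit 8, nat_lit 51, nat_lit 54, nat_lit 39, nat_lit 24, nat_lit 16, nat_lit 40, nat_lit 6, nat_lit 29, nat_lit 42, nat_lit 26, nat_lit 30, nat_lit 0]),
   (nat_lit 56, [nat_lit 22, nat_lit 38, nat_lit 7, nat_lit 38, nat_lit 45, nat_lit 45, nat_lit 38, nat_lit 22, nat_lit 22, nat_lit 7, nat_lit 7, nat_lit 45, nat_lit 38, nat_lit 7, nat_lit 45, nat_lit 38, nat_lit 7, nat_lit 45, nat_lit 22, nat_lit 22])]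

def S2 : List Nat := [nat_lit 0xfbffbd76e7b95b]

open Dt in
noncomputable def t0 : Dt :=
(br (nat_lit 15) (br (nat_lit 18) (br (nat_lit 17) (br (nat_lit 23) (br (nat_lit 41) (br (nat_lit 46) (br (nat_lit 1) (br (nat_lit 2) (br (nat_lit 5) (lf (nat_lit 18))
(br (nat_lit 7) (br (nat_lit 8) (lf (nat_lit 18))
(br (nat_lit 0) (br (nat_lit 6) (br (nat_lit 9) (br (nat_lit 11) (br (nat_lit 10) (lf (nat_lit 4))
(br (nat_lit 12) (br (nat_lit 14) (lf (nat_lit 4))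
(br (nat_lit 20) (lf (nat_lit 19))
(lf (nat_lit 1))))
(lf (nat_lit 0))))
(lf (nat_lit 0)))
(lf (nat_lit 1)))
(lf (nat_lit 0)))
(lf (nat_lit 0))))
(lf (nat_lit 1))))
(br (nat_lit 5) (br (nat_lit 8) (lf (nat_lit 18))
(br (nat_lit 0) (br (nat_lit 6) (br (nat_lit 10) (br (nat_lit 11) (br (nat_lit 12) (br (nat_lit 14) (br (nat_lit 21) (br (nat_lit 24) (br (nat_lit 34) (br (nat_lit 38) (br (nat_lit 39) (br (nat_lit 7) (lf (nat_lit 1))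
(br (nat_lit 9) (lf (nat_lit 1))
(br (nat_lit 13) (br (nat_lit 16) (br (nat_lit 20) (lf (nat_lit 1))
(lf (nat_lit 13)))
(lf (nat_lit 23)))
(lf (nat_lit 13)))))
(lf (nat_lit 0)))
(lf (nat_lit 4)))
(lf (nat_lit 0)))
(lf (nat_lit 4)))
(lf (nat_lit 0)))
(lf (nat_lit 4)))
(lf (nat_lit 0)))
(lf (nat_lit 0)))
(lf (nat_lit 4)))
(lf (nat_lit 0)))
(lf (nat_lit 0))))
(br (nat_lit 0) (br (nat_lit 6) (br (nat_lit 8) (br (nat_lit 11) (br (nat_lit 10) (lf (nat_lit 4))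
(br (nat_lit 12) (br (nat_lit 13) (br (nat_lit 14) (lf (nat_lit 4))
(br (nat_lit 9) (lf (nat_lit 8))
(br (nat_lit 20) (lf (nat_lit 19))
(br (nat_lit 7) (lf (nat_lit 6))
(br (nat_lit 16) (br (nat_lit 21) (br (nat_lit 22) (br (nat_lit 24) (lf (nat_lit 4))
(br (nat_lit 25) (br (nat_lit 26) (br (nat_lit 27) (lf (nat_lit 26))
(br (nat_lit 28) (br (nat_lit 29) (br (nat_lit 30) (br (nat_lit 31) (lf (nat_lit 30))
(br (nat_lit 32) (br (nat_lit 33) (lf (nat_lit 32))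
(br (nat_lit 34) (br (nat_lit 35) (br (nat_lit 36) (br (nat_lit 37) (br (nat_lit 38) (lf (nat_lit 4))
(br (nat_lit 39) (br (nat_lit 40) (br (nat_lit 42) (br (nat_lit 43) (br (nat_lit 44) (br (nat_lit 45) (br (nat_lit 47) (br (nat_lit 48) (br (nat_lit 49) (br (nat_lit 51) (br (nat_lit 52) (br (nat_lit 53) (br (nat_lit 54) (br (nat_lit 55) Dt.sol
(lf (nat_lit 56)))
(lf (nat_lit 56)))
(lf (nat_lit 9)))
(lf (nat_lit 7)))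
(lf (nat_lit 0)))
(lf (nat_lit 56)))
(lf (nat_lit 56)))
(lf (nat_lit 56)))
(lf (nat_lit 6)))
(lf (nat_lit 6)))
(lf (nat_lit 7)))
(lf (nat_lit 56)))
(lf (nat_lit 2)))
(lf (nat_lit 0))))
(lf (nat_lit 3)))
(lf (nat_lit 56)))
(lf (nat_lit 3)))
(lf (nat_lit 0))))
(lf (nat_lit 2))))
(lf (nat_lit 2)))
(lf (nat_lit 56)))
(lf (nat_lit 3))))
(lf (nat_lit 7)))
(lf (nat_lit 2))))
(lf (nat_lit 2)))
(lf (nat_lit 0)))
(lf (nat_lit 17)))))))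
(lf (nat_lit 7)))
(lf (nat_lit 0))))
(lf (nat_lit 0)))
(lf (nat_lit 0)))
(lf (nat_lit 0)))
(lf (nat_lit 0)))))
(br (nat_lit 2) (br (nat_lit 7) (br (nat_lit 9) (br (nat_lit 20) (br (nat_lit 31) (br (nat_lit 5) (br (nat_lit 0) (lf (nat_lit 0))
(br (nat_lit 6) (lf (nat_lit 0))
(lf (nat_lit 4))))
(br (nat_lit 8) (br (nat_lit 0) (lf (nat_lit 0))
(br (nat_lit 6) (lf (nat_lit 0))
(br (nat_lit 10) (lf (nat_lit 9))
(br (nat_lit 11) (lf (nat_lit 0))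
(br (nat_lit 12) (lf (nat_lit 0))
(br (nat_lit 13) (br (nat_lit 14) (br (nat_lit 16) (br (nat_lit 21) (lf (nat_lit 0))
(lf (nat_lit 1)))
(lf (nat_lit 17)))
(lf (nat_lit 16)))
(lf (nat_lit 2))))))))
(lf (nat_lit 1))))
(lf (nat_lit 1)))
(lf (nat_lit 1)))
(lf (nat_lit 1)))
(lf (nat_lit 1)))
(br (nat_lit 5) (br (nat_lit 0) (br (nat_lit 6) (lf (nat_lit 0))
(lf (nat_lit 4)))
(lf (nat_lit 4)))
(lf (nat_lit 18)))))
(lf (nat_lit 40)))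
(br (nat_lit 46) (lf (nat_lit 45))
(br (nat_lit 1) (br (nat_lit 0) (br (nat_lit 2) (br (nat_lit 5) (lf (nat_lit 18))
(lf (nat_lit 0)))
(lf (nat_lit 0)))
(lf (nat_lit 0)))
(br (nat_lit 5) (lf (nat_lit 4))
(br (nat_lit 2) (br (nat_lit 7) (br (nat_lit 8) (br (nat_lit 9) (br (nat_lit 13) (br (nat_lit 14) (lf (nat_lit 13))
(br (nat_lit 0) (br (nat_lit 6) (br (nat_lit 10) (br (nat_lit 11) (lf (nat_lit 0))
(lf (nat_lit 56)))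
(lf (nat_lit 5)))
(lf (nat_lit 56)))
(lf (nat_lit 22))))
(lf (nat_lit 7)))
(lf (nat_lit 1)))
(lf (nat_lit 1)))
(lf (nat_lit 1)))
(lf (nat_lit 18)))))))
(lf (nat_lit 16)))
(br (nat_lit 23) (lf (nat_lit 22))
(br (nat_lit 1) (br (nat_lit 0) (br (nat_lit 2) (br (nat_lit 5) (lf (nat_lit 18))
(lf (nat_lit 0)))
(lf (nat_lit 0)))
(lf (nat_lit 0)))
(br (nat_lit 5) (lf (nat_lit 4))
(br (nat_lit 2) (br (nat_lit 7) (br (nat_lit 8) (br (nat_lit 9) (br (nat_lit 13) (br (nat_lit 14) (lf (nat_lit 13))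
(br (nat_lit 20) (br (nat_lit 10) (br (nat_lit 21) (br (nat_lit 16) (br (nat_lit 24) (br (nat_lit 25) (lf (nat_lit 24))
(br (nat_lit 26) (br (nat_lit 27) (br (nat_lit 28) (br (nat_lit 11) (br (nat_lit 0) (br (nat_lit 6) (br (nat_lit 12) (lf (nat_lit 0))
(lf (nat_lit 5)))
(lf (nat_lit 56)))
(lf (nat_lit 10)))
(lf (nat_lit 27)))
(lf (nat_lit 19)))
(lf (nat_lit 9)))
(lf (nat_lit 7))))
(lf (nat_lit 9)))
(lf (nat_lit 20)))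
(lf (nat_lit 1)))
(lf (nat_lit 19)))
(lf (nat_lit 1))))
(lf (nat_lit 7)))
(lf (nat_lit 1)))
(lf (nat_lit 1)))
(lf (nat_lit 1)))
(lf (nat_lit 18)))))))
(lf (nat_lit 14)))
(br (nat_lit 18) (lf (nat_lit 17))
(br (nat_lit 1) (br (nat_lit 0) (br (nat_lit 2) (br (nat_lit 5) (lf (nat_lit 18))
(lf (nat_lit 0)))
(lf (nat_lit 0)))
(lf (nat_lit 0)))
(br (nat_lit 2) (lf (nat_lit 1))
(br (nat_lit 5) (br (nat_lit 0) (br (nat_lit 6) (br (nat_lit 7) (lf (nat_lit 6))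
(br (nat_lit 8) (br (nat_lit 10) (br (nat_lit 11) (br (nat_lit 12) (br (nat_lit 13) (br (nat_lit 14) (br (nat_lit 16) (br (nat_lit 17) (br (nat_lit 20) (lf (nat_lit 19))
(lf (nat_lit 2)))
(lf (nat_lit 4)))
(lf (nat_lit 56)))
(lf (nat_lit 4)))
(lf (nat_lit 2)))
(lf (nat_lit 2)))
(lf (nat_lit 56)))
(lf (nat_lit 56)))
(lf (nat_lit 4))))
(lf (nat_lit 56)))
(lf (nat_lit 4)))
(lf (nat_lit 18)))))))

open Dt in
noncomputable def tT : Dt :=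
(br (nat_lit 19) (br (nat_lit 1) (br (nat_lit 2) (br (nat_lit 5) (br (nat_lit 8) (lf (nat_lit 18))
(lf (nat_lit 18)))
(lf (nat_lit 18)))
(lf (nat_lit 18)))
(lf (nat_lit 18)))
(br (nat_lit 50) (br (nat_lit 14) (br (nat_lit 20) (br (nat_lit 25) (br (nat_lit 54) (lf (nat_lit 49))
(lf (nat_lit 49)))
(lf (nat_lit 49)))
(lf (nat_lit 49)))
(lf (nat_lit 49)))
(br (nat_lit 56) (br (nat_lit 7) (br (nat_lit 22) (br (nat_lit 38) (br (nat_lit 45) (lf (nat_lit 55))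
(lf (nat_lit 55)))
(lf (nat_lit 55)))
(lf (nat_lit 55)))
(lf (nat_lit 55)))
(br (nat_lit 3) (br (nat_lit 4) t0
(lf (nat_lit 2)))
(br (nat_lit 4) (lf (nat_lit 3))
(br (nat_lit 1) (br (nat_lit 0) (br (nat_lit 2) (br (nat_lit 5) (lf (nat_lit 18))
(lf (nat_lit 0)))
(lf (nat_lit 0)))
(lf (nat_lit 0)))
(br (nat_lit 2) (lf (nat_lit 1))
(br (nat_lit 5) (br (nat_lit 0) (br (nat_lit 6) (br (nat_lit 7) (lf (nat_lit 6))
(br (nat_lit 8) (br (nat_lit 10) (br (nat_lit 11) (br (nat_lit 12) (br (nat_lit 13) (br (nat_lit 14) (br (nat_lit 16) (br (nat_lit 17) (br (nat_lit 20) (lf (nat_lit 19))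
(br (nat_lit 9) (br (nat_lit 15) (lf (nat_lit 14))
(br (nat_lit 18) (lf (nat_lit 17))
(br (nat_lit 21) (br (nat_lit 22) (lf (nat_lit 21))
(br (nat_lit 23) (br (nat_lit 24) (br (nat_lit 25) (lf (nat_lit 24))
(br (nat_lit 26) (br (nat_lit 27) (br (nat_lit 28) (br (nat_lit 29) (br (nat_lit 30) (br (nat_lit 31) (br (nat_lit 32) (br (nat_lit 33) (br (nat_lit 34) (br (nat_lit 35) (br (nat_lit 36) (br (nat_lit 37) (br (nat_lit 38) (br (nat_lit 39) (lf (nat_lit 0))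
(lf (nat_lit 1)))
(lf (nat_lit 4)))
(lf (nat_lit 3)))
(lf (nat_lit 56)))
(lf (nat_lit 3)))
(lf (nat_lit 1)))
(lf (nat_lit 6)))
(lf (nat_lit 2)))
(lf (nat_lit 1)))
(lf (nat_lit 2)))
(lf (nat_lit 56)))
(lf (nat_lit 3)))
(lf (nat_lit 9)))
(lf (nat_lit 7))))
(lf (nat_lit 56)))
(lf (nat_lit 56))))
(lf (nat_lit 1)))))
(lf (nat_lit 13))))
(lf (nat_lit 4)))
(lf (nat_lit 5)))
(lf (nat_lit 4)))
(lf (nat_lit 7)))
(lf (nat_lit 4)))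
(lf (nat_lit 4)))
(lf (nat_lit 4)))
(lf (nat_lit 4))))
(lf (nat_lit 4)))
(lf (nat_lit 4)))
(lf (nat_lit 18))))))))))

theorem tree : dp (nat_lit 10) (nat_lit 17) (nat_lit 20) (nat_lit 0x1ffffffffffffff) (nat_lit 0, [nat_lit 10, nat_lit 1, nat_lit 11, nat_lit 23, nat_lit 11, nat_lit 29, nat_lit 5, nat_lit 15, nat_lit 47, nat_lit 18, nat_lit 48, nat_lit 24, nat_lit 54, nat_lit 42, nat_lit 6, nat_lit 55, nat_lit 36, nat_lit 6, nat_lit 16, nat_lit 49]) C2 S2 tT (nat_lit 0) (nat_lit 0) = true := by decide +kernel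


end Cfsg.Agent.R3.Suz
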